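import Mathlib
import Cfsg.Agent.Helper19.SpBN.Defs

/-!
# Two generators for `Sp_{2m}(K)` (S2411): definitions

`RootIn X G1 p q`: the whole root subgroup `{X p q t}` lies in the subgroup `G1`.
`IsCyc π P m`: `P : ℕ → ι ⊕ ι` enumerates the index set along the `2m`-cycle `π`, and
`bar = π ^ m`.  `pos`, `pt`: the concrete enumeration `1, …, m, -1, …, -m` of `Fin m ⊕ Fin m`.
`monoM π c`: the monomial matrix `e_k ↦ c k • e_(π k)`.  `cn`: the coefficients of the Coxeter
monomial; `dT lam`: the coefficients of the torus element used in the generators.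
-/

set_option autoImplicit false

namespace Cfsg.Agent.Helper9.SpGen

open Matrix Cfsg.Agent.Helper96.StN Cfsg.Agent.Helper96.StC

universe u v w

/-- the whole root subgroup of `(p, q)` lies in `G1` -/
def RootIn {K : Type u} [Field K] {D : Type v} [Group D] {ι : Type w}
    (X : ι ⊕ ι → ι ⊕ ι → K → D) (G1 : Subgroup D) (p q : ι ⊕ ι) : Prop :=
  ∀ t : K, X p q t ∈ G1

/-- `P` enumerates the index set along the cycle of `π`, and `bar = π ^ m` -/
structure IsCyc {ι : Type w} (π : Equiv.Perm (ι ⊕ ι)) (P : ℕ → ι ⊕ ι) (m : ℕ) : Prop where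
  step : ∀ k, P (k + 1) = π (P k)
  bar : ∀ k, bar (P k) = P (k + m)
  surj : ∀ p, ∃ k, P k = p
  inj : ∀ a b, P a = P b → a % (2 * m) = b % (2 * m)

/-- position of an index in the cyclic order `1, …, m, -1, …, -m` (0-based) -/
def pos {m : ℕ} : Fin m ⊕ Fin m → ℕ
  | Sum.inl i => i.val
  | Sum.inr i => m + i.val

/-- the index at position `k mod 2m` -/
def pt (m : ℕ) (hm : 0 < m) (k : ℕ) : Fin m ⊕ Fin m :=
  if h : k % (2 * m) < m then Sum.inl ⟨k % (2 * m), h⟩
  else Sum.inr ⟨k % (2 * m) - m, by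
    have := Nat.mod_lt k (show 0 < 2 * m by omega)
    omega⟩

/-- the monomial matrix `e_k ↦ c k • e_(π k)` -/
def monoM {K : Type u} [Field K] {ι : Type w} [DecidableEq ι] (π : Equiv.Perm (ι ⊕ ι))
    (c : ι ⊕ ι → K) : Matrix (ι ⊕ ι) (ι ⊕ ι) K :=
  fun r k => if r = π k then c k else 0

/-- the coefficients of the Coxeter monomial: `1` except `-1` at the last position `2m - 1` -/
def cn (K : Type u) [Field K] (m : ℕ) : Fin m ⊕ Fin m → K :=
  fun p => if pos p + 1 = 2 * m then -1 else 1

/-- the coefficients of the torus element: `lam` at the positions `0, 1`, `lam⁻¹` at `m, m + 1`,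
`1` elsewhere -/
def dT {K : Type u} [Field K] {m : ℕ} (lam : K) : Fin m ⊕ Fin m → K :=
  fun p => if pos p < 2 then lam else if m ≤ pos p ∧ pos p < m + 2 then lam⁻¹ else 1

end Cfsg.Agent.Helper9.SpGen
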