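import Mathlib
import Cfsg.Agent.Helper9.SpGen.Defs

/-!
# Two generators for `Sp_{2m}(K)` (S2411): the concrete cycle on `Fin m ⊕ Fin m`

`pos`, `pt` are mutually inverse (mod `2m`); `rot` is the rotation of the positions; it is a
`2m`-cycle in the sense of `IsCyc` and commutes with `bar`.
-/

set_option autoImplicit false

namespace Cfsg.Agent.Helper9.SpGen

open Cfsg.Agent.Helper96.StC

theorem pos_lt {m : ℕ} (p : Fin m ⊕ Fin m) : pos p < 2 * m := by
  cases p with
  | inl i => have := i.2; simp only [pos]; omega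
  | inr i => have := i.2; simp only [pos]; omega

theorem pos_pt (m : ℕ) (hm : 0 < m) (k : ℕ) : pos (pt m hm k) = k % (2 * m) := by
  unfold pt
  split_ifs with h
  · rfl
  · simp only [pos]
    omega

theorem pt_pos {m : ℕ} (hm : 0 < m) (p : Fin m ⊕ Fin m) : pt m hm (pos p) = p := by
  cases p with
  | inl i =>
    have hi := i.2
    have h1 : (pos (Sum.inl i : Fin m ⊕ Fin m)) % (2 * m) = i.val := by
      simp only [pos]; exact Nat.mod_eq_of_lt (by omega)
    unfold pt
    rw [dif_pos (by rw [h1]; exact hi)]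
    congr 1
    exact Fin.ext h1
  | inr i =>
    have hi := i.2
    have h1 : (pos (Sum.inr i : Fin m ⊕ Fin m)) % (2 * m) = m + i.val := by
      simp only [pos]; exact Nat.mod_eq_of_lt (by omega)
    unfold pt
    rw [dif_neg (by rw [h1]; omega)]
    congr 1
    apply Fin.ext
    simp only [h1]
    omega

theorem pos_injective {m : ℕ} : Function.Injective (pos : Fin m ⊕ Fin m → ℕ) := by
  intro p q h
  rcases Nat.eq_zero_or_pos m with h0 | h0
  · subst h0
    cases p with
    | inl i => exact i.elim0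
    | inr i => exact i.elim0
  · rw [← pt_pos h0 p, ← pt_pos h0 q, h]

theorem pos_bar {m : ℕ} (p : Fin m ⊕ Fin m) : pos (bar p) = (pos p + m) % (2 * m) := by
  cases p with
  | inl i =>
    have hi := i.2
    simp only [bar_inl, pos]
    rw [Nat.mod_eq_of_lt (by omega)]
    omega
  | inr i =>
    have hi := i.2
    simp only [bar_inr, pos]
    have : m + i.val + m = i.val + 2 * m := by ring
    rw [this, Nat.add_mod_right, Nat.mod_eq_of_lt (by omega)]

theorem pt_congr {m : ℕ} (hm : 0 < m) {a b : ℕ} (h : a % (2 * m) = b % (2 * m)) :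
    pt m hm a = pt m hm b := by
  apply pos_injective
  rw [pos_pt, pos_pt, h]

/-- the rotation `k ↦ k + 1` of the positions -/
def rot (m : ℕ) (hm : 0 < m) : Equiv.Perm (Fin m ⊕ Fin m) where
  toFun p := pt m hm (pos p + 1)
  invFun p := pt m hm (pos p + (2 * m - 1))
  left_inv p := by
    conv_rhs => rw [← pt_pos hm p]
    apply pt_congr
    rw [pos_pt, Nat.mod_add_mod]
    have e : pos p + 1 + (2 * m - 1) = pos p + 2 * m := by omega
    rw [e, Nat.add_mod_right]
  right_inv p := by
    conv_rhs => rw [← pt_pos hm p]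
    apply pt_congr
    rw [pos_pt, Nat.mod_add_mod]
    have e : pos p + (2 * m - 1) + 1 = pos p + 2 * m := by omega
    rw [e, Nat.add_mod_right]

theorem rot_apply (m : ℕ) (hm : 0 < m) (p : Fin m ⊕ Fin m) : rot m hm p = pt m hm (pos p + 1) := rfl

theorem pos_rot (m : ℕ) (hm : 0 < m) (p : Fin m ⊕ Fin m) :
    pos (rot m hm p) = (pos p + 1) % (2 * m) := by
  rw [rot_apply, pos_pt]

theorem rot_bar (m : ℕ) (hm : 0 < m) (k : Fin m ⊕ Fin m) : rot m hm (bar k) = bar (rot m hm k) := by
  apply pos_injective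
  rw [pos_rot, pos_bar, pos_bar, pos_rot, Nat.mod_add_mod, Nat.mod_add_mod]
  congr 1
  ring

theorem isCyc_rot (m : ℕ) (hm : 0 < m) : IsCyc (rot m hm) (pt m hm) m where
  step k := by
    rw [rot_apply]
    apply pt_congr
    rw [pos_pt, Nat.mod_add_mod]
  bar k := by
    apply pos_injective
    rw [pos_bar, pos_pt, pos_pt, Nat.mod_add_mod]
  surj p := ⟨pos p, pt_pos hm p⟩
  inj a b h := by
    have := congrArg pos h
    rwa [pos_pt, pos_pt] at this

theorem exists_rot (m : ℕ) (hm : 0 < m) : ∃ π : Equiv.Perm (Fin m ⊕ Fin m),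
    IsCyc π (pt m hm) m ∧ (∀ k, π (bar k) = bar (π k)) ∧
      ∀ p, pos (π p) = (pos p + 1) % (2 * m) :=
  ⟨rot m hm, isCyc_rot m hm, rot_bar m hm, pos_rot m hm⟩

end Cfsg.Agent.Helper9.SpGen
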