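import Mathlib
import Cfsg.Agent.Helper9.SpGen.Defs

/-!
# Two generators for `Sp_{2m}(K)` (S2411): root subgroups inside a subgroup

The elementary closure properties of `RootIn` under conjugation by monomial elements and under the
Steinberg relations of type `C`, powers of root elements, and the easy cycle lemmas.
-/

set_option autoImplicit false

namespace Cfsg.Agent.Helper9.SpGen

open Matrix Cfsg.Agent.Helper96.StN Cfsg.Agent.Helper96.StC

universe u v w

variable {K : Type u} [Field K] {D : Type v} [Group D] {ι : Type w}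
  {X : ι ⊕ ι → ι ⊕ ι → K → D} {G1 : Subgroup D}

/-! ### (R) root subgroups inside `G1` -/

theorem RootIn.conj {g : D} {π : Equiv.Perm (ι ⊕ ι)} {c : ι ⊕ ι → K} (hg : IsMono X g π c)
    (hgG : g ∈ G1) {p q : ι ⊕ ι} (hpq : p ≠ q) (h : RootIn X G1 p q) :
    RootIn X G1 (π p) (π q) := by
  intro t
  have h1 := hg.2 p q hpq ((c p * (c q)⁻¹)⁻¹ * t)
  have hne : c p * (c q)⁻¹ ≠ 0 := mul_ne_zero (hg.1 p) (inv_ne_zero (hg.1 q))
  rw [mul_inv_cancel_left₀ hne] at h1
  rw [← h1]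
  exact mul_mem (mul_mem hgG (h _)) (inv_mem hgG)

theorem RootIn.mul (hX : SpRel X) {p q s : ι ⊕ ι} (hpq : p ≠ q) (hqs : q ≠ s) (hps : p ≠ s)
    (h1 : p ≠ bar q) (h2 : q ≠ bar s) (h3 : p ≠ bar s) (hpq' : RootIn X G1 p q)
    (hqs' : RootIn X G1 q s) : RootIn X G1 p s := by
  intro t
  have h := hX.mul p q s hpq hqs hps h1 h2 h3 t 1
  rw [mul_one] at h
  rw [← h]
  exact mul_mem (mul_mem (mul_mem (hpq' _) (hqs' _)) (inv_mem (hpq' _))) (inv_mem (hqs' _))

theorem eps_ne_zero (p q : ι ⊕ ι) : eps K p q ≠ 0 := by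
  unfold eps
  split_ifs
  · exact one_ne_zero
  · exact neg_ne_zero.mpr one_ne_zero

theorem RootIn.sym (hX : SpRel X) {p q : ι ⊕ ι} (hpq : p ≠ q) (hq : q ≠ bar p)
    (h : RootIn X G1 p q) : RootIn X G1 (bar q) (bar p) := by
  intro t
  have h1 := hX.sym p q hpq hq (-((eps K p q)⁻¹ * t))
  have e : -(eps K p q * -((eps K p q)⁻¹ * t)) = t := by
    have := eps_ne_zero (K := K) p q
    field_simp
  rw [e] at h1
  rw [← h1]
  exact h _

theorem RootIn.r5 (hX : SpRel X) (h2 : (2 : K) ≠ 0) {p q : ι ⊕ ι} (hpq : p ≠ q)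
    (hpq' : p ≠ bar q) (h1 : RootIn X G1 p q) (h2' : RootIn X G1 q (bar p)) :
    RootIn X G1 p (bar p) := by
  intro t
  have h := hX.r5 p q hpq hpq' (2⁻¹ * t) 1
  have e : 2 * (2⁻¹ * t) * 1 = t := by field_simp
  rw [e] at h
  rw [← h]
  exact mul_mem (mul_mem (mul_mem (h1 _) (h2' _)) (inv_mem (h1 _))) (inv_mem (h2' _))

theorem RootIn.r6 (hX : SpRel X) {p q : ι ⊕ ι} (hpq : p ≠ q) (hpq' : p ≠ bar q)
    (h1 : RootIn X G1 p (bar p)) (h2 : RootIn X G1 (bar p) q) (h3 : RootIn X G1 (bar q) q) :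
    RootIn X G1 p q := by
  intro t
  have h := hX.r6 p q hpq hpq' t 1
  rw [mul_one] at h
  have e : X p q t = X p (bar p) t * X (bar p) q 1 * (X p (bar p) t)⁻¹ * (X (bar p) q 1)⁻¹ *
      (X (bar q) q (eps K p q * t * 1 ^ 2))⁻¹ := by
    rw [h, mul_inv_cancel_right]
  rw [e]
  exact mul_mem (mul_mem (mul_mem (mul_mem (h1 _) (h2 _)) (inv_mem (h1 _))) (inv_mem (h2 _)))
    (inv_mem (h3 _))

/-! ### (XP) powers of root elements, extraction of the factors of `h * y` -/

theorem X_zero (hX : SpRel X) {p q : ι ⊕ ι} (hpq : p ≠ q) : X p q 0 = 1 := by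
  have h := hX.add p q hpq 0 0
  rw [add_zero] at h
  exact left_eq_mul.mp h

theorem X_neg (hX : SpRel X) {p q : ι ⊕ ι} (hpq : p ≠ q) (t : K) : (X p q t)⁻¹ = X p q (-t) := by
  rw [inv_eq_iff_mul_eq_one, ← hX.add p q hpq, add_neg_cancel, X_zero hX hpq]

theorem X_pow (hX : SpRel X) {p q : ι ⊕ ι} (hpq : p ≠ q) (t : K) (k : ℕ) :
    X p q t ^ k = X p q (k * t) := by
  induction k with
  | zero => rw [pow_zero, Nat.cast_zero, zero_mul, X_zero hX hpq]
  | succ k ih =>
    rw [pow_succ, ih, ← hX.add p q hpq]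
    congr 1
    push_cast
    ring

theorem X_pow_card [Fintype K] (hX : SpRel X) {p q : ι ⊕ ι} (hpq : p ≠ q) (t : K) :
    X p q t ^ Fintype.card K = 1 := by
  rw [X_pow hX hpq, Nat.cast_card_eq_zero, zero_mul, X_zero hX hpq]

theorem mem_of_mul_mem {h y : D} (hc : Commute h y) {N : ℕ} (hy : y ^ N = 1) (hh : h ^ N = h)
    (hb : h * y ∈ G1) : h ∈ G1 ∧ y ∈ G1 := by
  have h1 : (h * y) ^ N = h := by rw [hc.mul_pow, hy, hh, mul_one]
  have h2 : h ∈ G1 := by
    rw [← h1]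
    exact pow_mem hb N
  refine ⟨h2, ?_⟩
  have e : y = h⁻¹ * (h * y) := by group
  rw [e]
  exact mul_mem (inv_mem h2) hb

/-- the parameters `t` with `X p q t ∈ G1` form an additive subgroup -/
def paramGroup (hX : SpRel X) (G1 : Subgroup D) {p q : ι ⊕ ι} (hpq : p ≠ q) : AddSubgroup K where
  carrier := {t | X p q t ∈ G1}
  zero_mem' := by
    change X p q 0 ∈ G1
    rw [X_zero hX hpq]
    exact one_mem _
  add_mem' := by
    intro a b ha hb
    change X p q (a + b) ∈ G1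
    rw [hX.add p q hpq]
    exact mul_mem ha hb
  neg_mem' := by
    intro a ha
    change X p q (-a) ∈ G1
    rw [← X_neg hX hpq]
    exact inv_mem ha

theorem mem_paramGroup (hX : SpRel X) {p q : ι ⊕ ι} (hpq : p ≠ q) (t : K) :
    t ∈ paramGroup hX G1 hpq ↔ X p q t ∈ G1 := Iff.rfl

/-! ### the cycle lemmas -/

variable {π : Equiv.Perm (ι ⊕ ι)} {P : ℕ → ι ⊕ ι} {m : ℕ} {n : D} {c : ι ⊕ ι → K}

theorem IsCyc.period (hP : IsCyc π P m) (k : ℕ) : P (k + 2 * m) = P k := by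
  have h1 := hP.bar k
  have h2 := hP.bar (k + m)
  have e : k + 2 * m = k + m + m := by ring
  rw [e, ← h2, ← h1, bar_bar]

theorem IsCyc.period_mul (hP : IsCyc π P m) (k j : ℕ) : P (k + j * (2 * m)) = P k := by
  induction j with
  | zero => simp
  | succ j ih =>
    have e : k + (j + 1) * (2 * m) = k + j * (2 * m) + 2 * m := by ring
    rw [e, hP.period, ih]

theorem IsCyc.mod (hP : IsCyc π P m) (k : ℕ) : P (k % (2 * m)) = P k := by
  conv_rhs => rw [← Nat.mod_add_div k (2 * m)]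
  rw [mul_comm (2 * m) (k / (2 * m)), hP.period_mul]

theorem IsCyc.eq_iff (hP : IsCyc π P m) (a b : ℕ) : P a = P b ↔ a % (2 * m) = b % (2 * m) := by
  constructor
  · exact hP.inj a b
  · intro h
    rw [← hP.mod a, ← hP.mod b, h]

theorem IsCyc.ne_succ (hP : IsCyc π P m) (hm : 2 ≤ m) (k : ℕ) : P k ≠ P (k + 1) := by
  intro h
  have h1 := (hP.eq_iff _ _).mp h
  have h2 : (k + 1) % (2 * m) = (k % (2 * m) + 1) % (2 * m) := by
    rw [Nat.add_mod, Nat.mod_eq_of_lt (show 1 < 2 * m by omega)]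
  rw [h2] at h1
  have h3 := Nat.mod_lt k (show 0 < 2 * m by omega)
  by_cases h4 : k % (2 * m) + 1 < 2 * m
  · rw [Nat.mod_eq_of_lt h4] at h1
    omega
  · have h5 : k % (2 * m) + 1 = 2 * m := by omega
    rw [h5, Nat.mod_self] at h1
    omega

/-- (L2) -/
theorem long_of_one (hP : IsCyc π P m) (hn : IsMono X n π c) (hnG : n ∈ G1)
    {r : ℕ} (hr : RootIn X G1 (P r) (bar (P r))) : ∀ p, RootIn X G1 p (bar p) := by
  have key : ∀ j, RootIn X G1 (P (r + j)) (bar (P (r + j))) := by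
    intro j
    induction j with
    | zero => exact hr
    | succ j ih =>
      have h1 := RootIn.conj hn hnG (bar_ne (P (r + j))).symm ih
      have e1 : π (P (r + j)) = P (r + (j + 1)) := by
        rw [← hP.step]
        rfl
      have e2 : π (bar (P (r + j))) = bar (P (r + (j + 1))) := by
        rw [hP.bar, ← hP.step, hP.bar]
        congr 1
        ring
      rw [e1, e2] at h1
      exact h1
  intro p
  obtain ⟨k, rfl⟩ := hP.surj p
  have h1 := key (k + r * (2 * m) - r)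
  have e : r + (k + r * (2 * m) - r) = k + r * (2 * m) := by
    have : r ≤ k + r * (2 * m) := by
      rcases Nat.eq_zero_or_pos m with h0 | h0
      · subst h0
        have h2 := hP.bar 0
        rw [add_zero] at h2
        exact absurd h2 (bar_ne _)
      · nlinarith
    omega
  rw [e, hP.period_mul] at h1
  exact h1

/-- (L3) -/
theorem long_of_short (hX : SpRel X) (h2 : (2 : K) ≠ 0) (hm : 2 ≤ m) (hP : IsCyc π P m)
    (hs : ∀ p q, p ≠ q → q ≠ bar p → RootIn X G1 p q) : ∀ p, RootIn X G1 p (bar p) := by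
  intro p
  obtain ⟨k, rfl⟩ := hP.surj p
  have h1 : P k ≠ P (k + 1) := hP.ne_succ hm k
  have h3 : P k ≠ bar (P (k + 1)) := by
    rw [hP.bar]
    intro h
    have h4 := (hP.eq_iff _ _).mp h
    have e : k + 1 + m = k + (m + 1) := by ring
    rw [e, Nat.add_mod k (m + 1), Nat.mod_eq_of_lt (show m + 1 < 2 * m by omega)] at h4
    have h5 := Nat.mod_lt k (show 0 < 2 * m by omega)
    by_cases h6 : k % (2 * m) + (m + 1) < 2 * m
    · rw [Nat.mod_eq_of_lt h6] at h4
      omega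
    · have h7 : (k % (2 * m) + (m + 1)) % (2 * m) = k % (2 * m) + (m + 1) - 2 * m := by
        rw [Nat.mod_eq_sub_mod (by omega), Nat.mod_eq_of_lt (by omega)]
      rw [h7] at h4
      omega
  have h3' : P (k + 1) ≠ bar (P k) := fun h => h3 (by rw [h, bar_bar])
  exact RootIn.r5 hX h2 h1 h3 (hs _ _ h1 h3') (hs _ _ h3' (fun h => h1 (bar_injective h)))

/-- (L4) -/
theorem eq_top_of_rootIn (hcl : Subgroup.closure {g : D | ∃ p q, p ≠ q ∧ ∃ t, g = X p q t} = ⊤)
    (hs : ∀ p q, p ≠ q → q ≠ bar p → RootIn X G1 p q) (hl : ∀ p, RootIn X G1 p (bar p)) :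
    G1 = ⊤ := by
  rw [eq_top_iff, ← hcl, Subgroup.closure_le]
  rintro _ ⟨p, q, hpq, t, rfl⟩
  by_cases hq : q = bar p
  · subst hq
    exact hl p t
  · exact hs p q hpq hq t

end Cfsg.Agent.Helper9.SpGen
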