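import Mathlib
import Cfsg.Agent.Helper9.SpGen.Root
import Cfsg.Agent.Helper9.SpGen.Pos
import Cfsg.Agent.Helper19.SpBN.Basic
import Cfsg.Agent.Helper33.SpGenPF

/-!
# Two generators for `Sp_{2m}(K)` (S2411): the pieces (C2), (HQ), (CD) (helper9's own proofs)
-/

set_option autoImplicit false
set_option linter.unusedTactic false

namespace Cfsg.Agent.Helper9.SpGenB

open Matrix Cfsg.Agent.Helper96.StN Cfsg.Agent.Helper96.StC Cfsg.Agent.Helper29.StCM
  Cfsg.Agent.Helper19.SpBN Cfsg.Agent.Helper9.SpGen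

universe u v w

section c2

variable {K : Type u} [Field K] {D : Type v} [Group D] {ι : Type w}
  {X : ι ⊕ ι → ι ⊕ ι → K → D}

open Cfsg.Agent.Helper96.StemSLTwo Cfsg.Agent.Helper96.StPres in
theorem cube_eq_one [Fintype K] [DecidableEq ι] (hK : Fintype.card K = 2)
    (hM : MonoData X reflPerm cw) {p q : ι ⊕ ι} (hpq : p ≠ q) :
    (X p q 1 * X q p 1) ^ 3 = 1 := by
  have h2 : (1 : K) + 1 = 0 := Cfsg.Agent.Helper33.SpGen.one_add_one_of_card_two hK
  rw [← hM.rankOneHom_u hpq 1, ← hM.rankOneHom_l hpq 1, ← map_mul, ← map_pow]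
  have : (uMat K 1 * lMat K 1) ^ 3 = 1 := by
    apply Matrix.SpecialLinearGroup.ext
    have e1 : ((uMat K 1 * lMat K 1 : Matrix.SpecialLinearGroup (Fin 2) K) :
        Matrix (Fin 2) (Fin 2) K) = !![0, 1; 1, 1] := by
      rw [Matrix.SpecialLinearGroup.coe_mul, uMat_coe, lMat_coe]
      ext i j
      fin_cases i <;> fin_cases j <;> simp [Matrix.mul_apply, Fin.sum_univ_two, h2]
    intro i j
    rw [Matrix.SpecialLinearGroup.coe_pow, e1, Matrix.SpecialLinearGroup.coe_one]
    fin_cases i <;> fin_cases j <;>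
      simp [pow_succ, Matrix.mul_apply, Fin.sum_univ_two, h2]
  rw [this, map_one]

end c2

section hq

variable {K : Type u} [Field K]

theorem monoM_one_eq_diagonal {m : ℕ} (d : Fin m ⊕ Fin m → K) :
    monoM (1 : Equiv.Perm (Fin m ⊕ Fin m)) d = Matrix.diagonal d := by
  ext r k
  unfold monoM
  rw [Equiv.Perm.one_apply, Matrix.diagonal_apply]
  by_cases h : r = k
  · subst h; simp
  · simp [h]

theorem pow_card_of_diag [Fintype K] {m : ℕ} {h : SpG K m} {d : Fin m ⊕ Fin m → K}
    (hh : h.1 = monoM 1 d) : h ^ Fintype.card K = h := by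
  apply Subtype.ext
  rw [SubmonoidClass.coe_pow]
  change h.1 ^ Fintype.card K = h.1
  rw [hh, monoM_one_eq_diagonal, Matrix.diagonal_pow]
  congr 1
  ext k
  simp [FiniteField.pow_card]

theorem commute_of_isMono_one {m : ℕ} {g g' : SpG K m} {c c' : Fin m ⊕ Fin m → K}
    (hg : IsMono (XS K m) g 1 c) (hg' : IsMono (XS K m) g' 1 c') : Commute g g' := by
  have key : ∀ {x : SpG K m} {e : Fin m ⊕ Fin m → K}, IsMono (XS K m) x 1 e →
      x.1 = Matrix.diagonal (fun k => x.1 k k) := by
    intro x e hx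
    ext r k
    rw [Matrix.diagonal_apply]
    by_cases h : r = k
    · subst h; simp
    · rw [if_neg h]
      exact mono_col_zero hx (fun _ => rfl) k r (by simpa using h)
  apply Subtype.ext
  change g.1 * g'.1 = g'.1 * g.1
  rw [key hg, key hg', Matrix.diagonal_mul_diagonal, Matrix.diagonal_mul_diagonal]
  congr 1
  ext k
  exact mul_comm _ _

end hq

section cd

variable {K : Type u} [Field K]

theorem sgn_eq {m : ℕ} (p : Fin m ⊕ Fin m) : sgn K p = if pos p < m then -1 else 1 := by
  cases p with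
  | inl i => have := i.2; simp [sgn, pos, this]
  | inr i => simp [sgn, pos]

theorem cn_cond {m : ℕ} (hm : 0 < m) {π : Equiv.Perm (Fin m ⊕ Fin m)}
    (hπ : ∀ p, pos (π p) = (pos p + 1) % (2 * m)) (k : Fin m ⊕ Fin m) :
    cn K m k * cn K m (bar k) * sgn K k = sgn K (π k) := by
  rw [sgn_eq, sgn_eq, hπ]
  unfold cn
  rw [pos_bar]
  have hk := pos_lt k
  by_cases h1 : pos k + 1 = 2 * m
  · have e1 : (pos k + m) % (2 * m) = m - 1 := by
      have : pos k + m = (m - 1) + 2 * m := by omega
      rw [this, Nat.add_mod_right, Nat.mod_eq_of_lt (by omega)]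
    have e2 : (pos k + 1) % (2 * m) = 0 := by rw [h1, Nat.mod_self]
    rw [e1, e2, if_pos h1, if_neg (by omega), if_neg (by omega), if_pos hm]
    ring
  · rw [if_neg h1, Nat.mod_eq_of_lt (show pos k + 1 < 2 * m by omega)]
    by_cases h2 : pos k < m
    · rw [Nat.mod_eq_of_lt (show pos k + m < 2 * m by omega), if_pos h2]
      by_cases h3 : pos k + 1 < m
      · rw [if_neg (by omega), if_pos h3]; ring
      · rw [if_pos (by omega), if_neg h3]; ring
    · have e1 : (pos k + m) % (2 * m) = pos k - m := by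
        have : pos k + m = (pos k - m) + 2 * m := by omega
        rw [this, Nat.add_mod_right, Nat.mod_eq_of_lt (by omega)]
      rw [e1, if_neg (by omega), if_neg h2, if_neg (by omega)]; ring

theorem dT_cond {m : ℕ} (hm : 2 ≤ m) {lam : K} (hlam : lam ≠ 0) (k : Fin m ⊕ Fin m) :
    dT lam k * dT lam (bar k) * sgn K k = sgn K ((1 : Equiv.Perm (Fin m ⊕ Fin m)) k) := by
  rw [Equiv.Perm.one_apply]
  suffices h : dT lam k * dT lam (bar k) = 1 by rw [h, one_mul]
  unfold dT
  rw [pos_bar]
  have hk := pos_lt k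
  by_cases h2 : pos k < m
  · rw [Nat.mod_eq_of_lt (show pos k + m < 2 * m by omega)]
    by_cases h3 : pos k < 2
    · rw [if_pos h3, if_neg (by omega), if_pos (by omega), mul_inv_cancel₀ hlam]
    · rw [if_neg h3, if_neg (by omega), if_neg (by omega), if_neg (by omega), mul_one]
  · have e1 : (pos k + m) % (2 * m) = pos k - m := by
      have : pos k + m = (pos k - m) + 2 * m := by omega
      rw [this, Nat.add_mod_right, Nat.mod_eq_of_lt (by omega)]
    rw [e1]
    by_cases h3 : pos k < m + 2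
    · rw [if_neg (by omega), if_pos (by omega), if_pos (by omega), inv_mul_cancel₀ hlam]
    · rw [if_neg (by omega), if_neg (by omega), if_neg (by omega), if_neg (by omega), mul_one]

theorem dT_values {m : ℕ} (hm : 2 ≤ m) (lam : K) :
    dT lam (pt m (by omega) 0) = lam ∧ dT lam (pt m (by omega) 1) = lam ∧
    dT lam (pt m (by omega) m) = lam⁻¹ ∧ dT lam (pt m (by omega) (m + 1)) = lam⁻¹ ∧
    (dT lam (pt m (by omega) (2 * m - 1)) = 1 ∨ dT lam (pt m (by omega) (2 * m - 1)) = lam⁻¹) := by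
  have hm0 : 0 < m := by omega
  unfold dT
  simp only [pos_pt]
  rw [Nat.mod_eq_of_lt (show 0 < 2 * m by omega), Nat.mod_eq_of_lt (show 1 < 2 * m by omega),
    Nat.mod_eq_of_lt (show m < 2 * m by omega), Nat.mod_eq_of_lt (show m + 1 < 2 * m by omega),
    Nat.mod_eq_of_lt (show 2 * m - 1 < 2 * m by omega)]
  refine ⟨by simp, by simp, ?_, ?_, ?_⟩
  · rw [if_neg (by omega), if_pos (by omega)]
  · rw [if_neg (by omega), if_pos (by omega)]
  · rw [if_neg (by omega)]
    by_cases h : 2 * m - 1 < m + 2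
    · right; rw [if_pos ⟨by omega, h⟩]
    · left; rw [if_neg (fun hh => h hh.2)]

end cd

end Cfsg.Agent.Helper9.SpGenB
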