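import Mathlib
import Cfsg.Agent.Helper9.SpGen.Root
import Cfsg.Agent.Helper9.SpGen.Pos
import Cfsg.Agent.Helper19.SpBN.Basic
import Cfsg.Agent.Helper33.SpGenPF
import Cfsg.Agent.Helper69.SpGenC1
import Cfsg.Agent.Helper68.SpGenFL
import Cfsg.Agent.Helper68.SpGenTR
import Cfsg.Agent.Helper67.SpGenGM1
import Cfsg.Agent.Helper67.SpGenGM2
import Cfsg.Agent.Helper67.SpGenL1
import Cfsg.Agent.Helper9.SpGen.Extra

/-!
# Two generators for `Sp_{2m}(K)` (S2411): the pieces proved by the team (WANTED #9054)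

(PF) helper33, (C1) helper69, (FL), (TR) helper68, (GM1), (GM2), (L1) helper67; (HQ), (CD), (C2)
from `Extra.lean`.  Restated here verbatim from the skeleton and closed by plain application.
-/

set_option autoImplicit false

namespace Cfsg.Agent.Helper9.SpGen

open Matrix Cfsg.Agent.Helper96.StN Cfsg.Agent.Helper96.StC Cfsg.Agent.Helper29.StCM
  Cfsg.Agent.Helper19.SpBN

universe u v w

section abstract

variable {K : Type u} [Field K] {D : Type v} [Group D] {ι : Type w}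
  {X : ι ⊕ ι → ι ⊕ ι → K → D} {G1 : Subgroup D}

theorem addSubgroup_eq_top [Fintype K] (S : AddSubgroup K) {lam c' : K}
    (hlam : ∀ x : K, x ≠ 0 → ∃ j : ℕ, x = lam ^ j) (hc : c' ∈ S) (hc0 : c' ≠ 0)
    (hS : ∀ s ∈ S, lam ^ 2 * s ∈ S) : S = ⊤ :=
  Cfsg.Agent.Helper68.SpGen.addSubgroup_eq_top S hlam hc hc0 hS

theorem rootIn_of_scale [Fintype K] (hX : SpRel X) {p q : ι ⊕ ι} (hpq : p ≠ q) {lam c' : K}
    (hlam : ∀ x : K, x ≠ 0 → ∃ j : ℕ, x = lam ^ j) (hc0 : c' ≠ 0) (hc : X p q c' ∈ G1)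
    (hS : ∀ t, X p q t ∈ G1 → X p q (lam ^ 2 * t) ∈ G1) : RootIn X G1 p q :=
  Cfsg.Agent.Helper68.SpGen.rootIn_of_scale hX hpq hlam hc0 hc hS

theorem isMono_conj {n h : D} {π : Equiv.Perm (ι ⊕ ι)} {c d : ι ⊕ ι → K} (hn : IsMono X n π c)
    (hh : IsMono X h 1 d) : IsMono X (n * h * n⁻¹) 1 (fun k => d (π⁻¹ k)) :=
  Cfsg.Agent.Helper68.SpGen.isMono_conj hn hh

theorem trick (hX : SpRel X) {n h : D} {π : Equiv.Perm (ι ⊕ ι)} {c d : ι ⊕ ι → K}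
    (hn : IsMono X n π c) (hh : IsMono X h 1 d) (hcomm : Commute h (n * h * n⁻¹))
    {r : ι ⊕ ι} (ha : X r (bar r) 1 * n ∈ G1) (hhG : h ∈ G1) :
    X r (bar r) ((d r * (d (bar r))⁻¹ - 1) * (1 - d (π⁻¹ r) * (d (π⁻¹ (bar r)))⁻¹)) ∈ G1 :=
  Cfsg.Agent.Helper68.SpGen.trick hX hn hh hcomm ha hhG

variable {π : Equiv.Perm (ι ⊕ ι)} {P : ℕ → ι ⊕ ι} {m : ℕ} {n : D} {c : ι ⊕ ι → K}

theorem short_of_adjacent (hX : SpRel X) (hm : 2 ≤ m) (hP : IsCyc π P m) (hn : IsMono X n π c)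
    (hnG : n ∈ G1) (h01 : RootIn X G1 (P 0) (P 1)) :
    ∀ p q, p ≠ q → q ≠ bar p → RootIn X G1 p q :=
  Cfsg.Agent.Helper67.SpGen.short_of_adjacent hX hm hP hn hnG h01

theorem cube_eq_one [Fintype K] [DecidableEq ι] (hK : Fintype.card K = 2)
    (hM : MonoData X reflPerm cw) {p q : ι ⊕ ι} (hpq : p ≠ q) :
    (X p q 1 * X q p 1) ^ 3 = 1 :=
  Cfsg.Agent.Helper9.SpGenB.cube_eq_one hK hM hpq

theorem conj_long_char_two [Fintype K] [DecidableEq ι] (hK : Fintype.card K = 2) (hX : SpRel X)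
    (hM : MonoData X reflPerm cw) {p q : ι ⊕ ι} (hpq : p ≠ q) (hq : q ≠ bar p) :
    ∃ t1 t2 t3 : K, t1 ≠ 0 ∧
      (X p q 1 * X q p 1) * X q (bar q) 1 * (X p q 1 * X q p 1)⁻¹ =
        X p (bar q) t1 * X q (bar q) t2 * X p (bar p) t3 :=
  Cfsg.Agent.Helper69.SpGen.conj_long_char_two hK hX hM hpq hq

end abstract

theorem exists_natCast_of_card_prime {K : Type u} [Field K] [Fintype K] {p : ℕ} (hp : p.Prime)
    (hK : Fintype.card K = p) (t : K) : ∃ j : ℕ, t = (j : K) :=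
  Cfsg.Agent.Helper33.SpGen.exists_natCast_of_card_prime hp hK t

theorem eq_zero_or_one_of_card_two {K : Type u} [Field K] [Fintype K] (hK : Fintype.card K = 2)
    (t : K) : t = 0 ∨ t = 1 :=
  Cfsg.Agent.Helper33.SpGen.eq_zero_or_one_of_card_two hK t

theorem one_add_one_of_card_two {K : Type u} [Field K] [Fintype K] (hK : Fintype.card K = 2) :
    (1 : K) + 1 = 0 :=
  Cfsg.Agent.Helper33.SpGen.one_add_one_of_card_two hK

section concrete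

variable {K : Type u} [Field K]

theorem monoM_mem {ι : Type w} [DecidableEq ι] [Fintype ι] {π : Equiv.Perm (ι ⊕ ι)}
    {c : ι ⊕ ι → K} (hπ : ∀ k, π (bar k) = bar (π k))
    (hc : ∀ k, c k * c (bar k) * sgn K k = sgn K (π k)) :
    monoM π c ∈ Matrix.symplecticGroup ι K :=
  Cfsg.Agent.Helper67.SpGen.monoM_mem hπ hc

theorem isMono_of_coe {m : ℕ} {g : SpG K m} {π : Equiv.Perm (Fin m ⊕ Fin m)}
    {c : Fin m ⊕ Fin m → K} (hπ : ∀ k, π (bar k) = bar (π k))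
    (hc : ∀ k, c k * c (bar k) * sgn K k = sgn K (π k)) (hg : g.1 = monoM π c) :
    IsMono (XS K m) g π c :=
  Cfsg.Agent.Helper67.SpGen.isMono_of_coe hπ hc hg

theorem cn_cond {m : ℕ} (hm : 0 < m) {π : Equiv.Perm (Fin m ⊕ Fin m)}
    (hπ : ∀ p, pos (π p) = (pos p + 1) % (2 * m)) (k : Fin m ⊕ Fin m) :
    cn K m k * cn K m (bar k) * sgn K k = sgn K (π k) :=
  Cfsg.Agent.Helper9.SpGenB.cn_cond hm hπ k

theorem dT_cond {m : ℕ} (hm : 2 ≤ m) {lam : K} (hlam : lam ≠ 0) (k : Fin m ⊕ Fin m) :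
    dT lam k * dT lam (bar k) * sgn K k = sgn K ((1 : Equiv.Perm (Fin m ⊕ Fin m)) k) :=
  Cfsg.Agent.Helper9.SpGenB.dT_cond hm hlam k

theorem dT_values {m : ℕ} (hm : 2 ≤ m) (lam : K) :
    dT lam (pt m (by omega) 0) = lam ∧ dT lam (pt m (by omega) 1) = lam ∧
    dT lam (pt m (by omega) m) = lam⁻¹ ∧ dT lam (pt m (by omega) (m + 1)) = lam⁻¹ ∧
    (dT lam (pt m (by omega) (2 * m - 1)) = 1 ∨ dT lam (pt m (by omega) (2 * m - 1)) = lam⁻¹) :=
  Cfsg.Agent.Helper9.SpGenB.dT_values hm lam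

theorem pow_card_of_diag [Fintype K] {m : ℕ} {h : SpG K m} {d : Fin m ⊕ Fin m → K}
    (hh : h.1 = monoM 1 d) : h ^ Fintype.card K = h :=
  Cfsg.Agent.Helper9.SpGenB.pow_card_of_diag hh

theorem commute_of_isMono_one {m : ℕ} {g g' : SpG K m} {c c' : Fin m ⊕ Fin m → K}
    (hg : IsMono (XS K m) g 1 c) (hg' : IsMono (XS K m) g' 1 c') : Commute g g' :=
  Cfsg.Agent.Helper9.SpGenB.commute_of_isMono_one hg hg'

end concrete

end Cfsg.Agent.Helper9.SpGen
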