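import Mathlib
import Cfsg.Agent.Helper9.SpGen.Pieces

/-!
# Two generators for `Sp_{2m}(K)` (S2411): the three abstract assemblies
-/

set_option autoImplicit false

namespace Cfsg.Agent.Helper9.SpGen

open Matrix Cfsg.Agent.Helper96.StN Cfsg.Agent.Helper96.StC

universe u v w

variable {K : Type u} [Field K] {D : Type v} [Group D] {ι : Type w}
  {X : ι ⊕ ι → ι ⊕ ι → K → D}
  {π : Equiv.Perm (ι ⊕ ι)} {P : ℕ → ι ⊕ ι} {m : ℕ}

theorem IsCyc.ne_of_lt (hP : IsCyc π P m) {a b : ℕ} (ha : a < 2 * m) (hb : b < 2 * m)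
    (hab : a ≠ b) : P a ≠ P b := by
  intro h
  have h1 := (hP.eq_iff a b).mp h
  rw [Nat.mod_eq_of_lt ha, Nat.mod_eq_of_lt hb] at h1
  exact hab h1

theorem IsCyc.inv_succ (hP : IsCyc π P m) (k : ℕ) : π⁻¹ (P (k + 1)) = P k := by
  rw [hP.step]
  simp

/-- the case `q ≥ 4`: `a = x_long * n`, `b = h * x_short` -/
theorem gen_trick [Fintype K] (hX : SpRel X)
    (hcl : Subgroup.closure {g : D | ∃ p q, p ≠ q ∧ ∃ t, g = X p q t} = ⊤)
    (hm : 2 ≤ m) (hP : IsCyc π P m) {n h : D} {c d : ι ⊕ ι → K}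
    (hn : IsMono X n π c) (hh : IsMono X h 1 d)
    (hcomm : Commute h (n * h * n⁻¹)) (hq : h ^ Fintype.card K = h)
    {lam : K} (hlam : ∀ x : K, x ≠ 0 → ∃ j : ℕ, x = lam ^ j) (hlam2 : lam ^ 2 ≠ 1)
    (d0 : d (P 0) = lam) (d1 : d (P 1) = lam) (dm : d (P m) = lam⁻¹)
    (dm1 : d (P (m + 1)) = lam⁻¹)
    (dl : d (P (2 * m - 1)) = 1 ∨ d (P (2 * m - 1)) = lam⁻¹) :
    Subgroup.closure {X (P 1) (bar (P 1)) 1 * n, h * X (P 0) (P 1) 1} = ⊤ := by
  set G1 : Subgroup D := Subgroup.closure {X (P 1) (bar (P 1)) 1 * n, h * X (P 0) (P 1) 1}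
    with hG1
  have ha : X (P 1) (bar (P 1)) 1 * n ∈ G1 := Subgroup.subset_closure (by simp)
  have hb : h * X (P 0) (P 1) 1 ∈ G1 := Subgroup.subset_closure (by simp)
  have hl0 : lam ≠ 0 := by
    rw [← d0]
    exact hh.1 _
  have h01 : P 0 ≠ P 1 := hP.ne_succ hm 0
  have hbar1 : bar (P 1) = P (m + 1) := by
    rw [hP.bar, add_comm]
  -- Step 1: `h` commutes with `y`
  have hc : Commute h (X (P 0) (P 1) 1) := by
    have h1 := hh.2 (P 0) (P 1) h01 1
    rw [Equiv.Perm.one_apply, Equiv.Perm.one_apply, d0, d1, mul_inv_cancel₀ hl0, one_mul] at h1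
    exact mul_inv_eq_iff_eq_mul.mp h1
  -- Step 2
  obtain ⟨hhG, hyG⟩ := mem_of_mul_mem hc (X_pow_card hX h01 1) hq hb
  -- Step 3: the trick
  have hα : P 1 ≠ bar (P 1) := (bar_ne _).symm
  have htr := trick hX hn hh hcomm ha hhG
  have e1 : π⁻¹ (P 1) = P 0 := hP.inv_succ 0
  have e2 : π⁻¹ (bar (P 1)) = P m := by
    rw [hbar1]
    exact hP.inv_succ m
  rw [e1, e2, hbar1, d0, d1, dm, dm1, inv_inv] at htr
  have hcoef : (lam * lam - 1) * (1 - lam * lam) ≠ 0 := by
    have h1 : lam * lam ≠ 1 := by rwa [← sq]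
    exact mul_ne_zero (sub_ne_zero.mpr h1) (sub_ne_zero.mpr (Ne.symm h1))
  -- Step 4: the long root subgroup
  have hlong1 : RootIn X G1 (P 1) (bar (P 1)) := by
    rw [hbar1]
    rw [hbar1] at hα
    refine rootIn_of_scale hX hα hlam hcoef htr ?_
    intro t ht
    have h1 := hh.2 (P 1) (P (m + 1)) hα t
    rw [Equiv.Perm.one_apply, Equiv.Perm.one_apply, d1, dm1, inv_inv] at h1
    rw [sq, ← h1]
    exact mul_mem (mul_mem hhG ht) (inv_mem hhG)
  have hnG : n ∈ G1 := by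
    have e : n = (X (P 1) (bar (P 1)) 1)⁻¹ * (X (P 1) (bar (P 1)) 1 * n) := by group
    rw [e]
    exact mul_mem (inv_mem (hlong1 1)) ha
  -- Step 5
  have hlong := long_of_one hP hn hnG hlong1
  -- Step 6: the short root subgroup
  have hh' := isMono_conj hn hh
  have hh'G : n * h * n⁻¹ ∈ G1 := mul_mem (mul_mem hnG hhG) (inv_mem hnG)
  have e3 : π⁻¹ (P 0) = P (2 * m - 1) := by
    have h1 := hP.inv_succ (2 * m - 1)
    have h2 : 2 * m - 1 + 1 = 0 + 2 * m := by omega
    rw [h2, hP.period] at h1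
    exact h1
  have hlam' : ∀ x : K, x ≠ 0 → ∃ j : ℕ, x = lam⁻¹ ^ j := by
    intro x hx
    obtain ⟨j, hj⟩ := hlam x⁻¹ (inv_ne_zero hx)
    exact ⟨j, by rw [inv_pow, ← hj, inv_inv]⟩
  have hscale : ∀ t, X (P 0) (P 1) t ∈ G1 →
      X (P 0) (P 1) (d (P (2 * m - 1)) * lam⁻¹ * t) ∈ G1 := by
    intro t ht
    have h1 := hh'.2 (P 0) (P 1) h01 t
    simp only [Equiv.Perm.one_apply] at h1
    rw [e1, e3, d0] at h1
    rw [← h1]
    exact mul_mem (mul_mem hh'G ht) (inv_mem hh'G)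
  have hshort1 : RootIn X G1 (P 0) (P 1) := by
    refine rootIn_of_scale hX h01 hlam' one_ne_zero hyG ?_
    intro t ht
    rcases dl with dl | dl
    · rw [dl, one_mul] at hscale
      have := hscale _ (hscale t ht)
      rw [sq, mul_assoc]
      exact this
    · rw [dl] at hscale
      have := hscale t ht
      rw [sq]
      exact this
  -- Step 7
  have hshort := short_of_adjacent hX hm hP hn hnG hshort1
  exact eq_top_of_rootIn hcl hshort hlong

/-- the case of an odd prime field: `a = n`, `b = x_short` -/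
theorem gen_prime (hX : SpRel X)
    (hcl : Subgroup.closure {g : D | ∃ p q, p ≠ q ∧ ∃ t, g = X p q t} = ⊤)
    (hm : 2 ≤ m) (hP : IsCyc π P m) {n : D} {c : ι ⊕ ι → K} (hn : IsMono X n π c)
    (h2 : (2 : K) ≠ 0) (hprime : ∀ t : K, ∃ j : ℕ, t = (j : K)) :
    Subgroup.closure {n, X (P 0) (P 1) 1} = ⊤ := by
  set G1 : Subgroup D := Subgroup.closure {n, X (P 0) (P 1) 1} with hG1
  have hnG : n ∈ G1 := Subgroup.subset_closure (by simp)
  have hyG : X (P 0) (P 1) 1 ∈ G1 := Subgroup.subset_closure (by simp)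
  have h01 : P 0 ≠ P 1 := hP.ne_succ hm 0
  have hshort1 : RootIn X G1 (P 0) (P 1) := by
    intro t
    obtain ⟨j, rfl⟩ := hprime t
    have := X_pow hX h01 (1 : K) j
    rw [mul_one] at this
    rw [← this]
    exact pow_mem hyG j
  have hshort := short_of_adjacent hX hm hP hn hnG hshort1
  exact eq_top_of_rootIn hcl hshort (long_of_short hX h2 hm hP hshort)

/-- the case `q = 2`, `m ≥ 3`: `a = n`, `b = x_long * (element of order 3)` -/
theorem gen_two [Fintype K] [DecidableEq ι] (hK : Fintype.card K = 2) (hX : SpRel X)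
    (hM : MonoData X reflPerm cw)
    (hcl : Subgroup.closure {g : D | ∃ p q, p ≠ q ∧ ∃ t, g = X p q t} = ⊤)
    (hm : 3 ≤ m) (hP : IsCyc π P m) {n : D} {c : ι ⊕ ι → K} (hn : IsMono X n π c) :
    Subgroup.closure {n, X (P 2) (bar (P 2)) 1 * (X (P 0) (P 1) 1 * X (P 1) (P 0) 1)} = ⊤ := by
  set G1 : Subgroup D :=
    Subgroup.closure {n, X (P 2) (bar (P 2)) 1 * (X (P 0) (P 1) 1 * X (P 1) (P 0) 1)} with hG1
  have hnG : n ∈ G1 := Subgroup.subset_closure (by simp)
  have hbG : X (P 2) (bar (P 2)) 1 * (X (P 0) (P 1) 1 * X (P 1) (P 0) 1) ∈ G1 :=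
    Subgroup.subset_closure (by simp)
  have hm2 : 2 ≤ m := by omega
  have h01 : P 0 ≠ P 1 := hP.ne_succ hm2 0
  have hbar : ∀ k, bar (P k) = P (k + m) := hP.bar
  have hne : ∀ {a b : ℕ}, a < 2 * m → b < 2 * m → a ≠ b → P a ≠ P b :=
    fun ha hb hab => hP.ne_of_lt ha hb hab
  have h2K : (2 : K) = 0 := by
    have := one_add_one_of_card_two hK
    rw [← this]; norm_num
  have h01K : ∀ t : K, t = 0 ∨ t = 1 := eq_zero_or_one_of_card_two hK
  have rootIn_of_one : ∀ {p q : ι ⊕ ι}, p ≠ q → X p q 1 ∈ G1 → RootIn X G1 p q := by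
    intro p q hpq h1 t
    rcases h01K t with rfl | rfl
    · rw [X_zero hX hpq]; exact one_mem _
    · exact h1
  -- the two factors commute
  have hγ : P 2 ≠ bar (P 2) := (bar_ne _).symm
  have hc1 : Commute (X (P 2) (bar (P 2)) 1) (X (P 0) (P 1) 1) := by
    refine hX.comm (P 2) (bar (P 2)) (P 0) (P 1) hγ h01 ?_ ?_ ?_ ?_ 1 1
    · rw [hbar]; exact hne (by omega) (by omega) (by omega)
    · exact fun h => hne (show 2 < 2 * m by omega) (show 1 < 2 * m by omega) (by omega)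
        (bar_injective h)
    · rw [hbar]; exact hne (by omega) (by omega) (by omega)
    · exact hne (by omega) (by omega) (by omega)
  have hc2 : Commute (X (P 2) (bar (P 2)) 1) (X (P 1) (P 0) 1) := by
    refine hX.comm (P 2) (bar (P 2)) (P 1) (P 0) hγ h01.symm ?_ ?_ ?_ ?_ 1 1
    · rw [hbar]; exact hne (by omega) (by omega) (by omega)
    · exact fun h => hne (show 2 < 2 * m by omega) (show 0 < 2 * m by omega) (by omega)
        (bar_injective h)
    · rw [hbar]; exact hne (by omega) (by omega) (by omega)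
    · exact hne (by omega) (by omega) (by omega)
  have hc : Commute (X (P 2) (bar (P 2)) 1) (X (P 0) (P 1) 1 * X (P 1) (P 0) 1) :=
    hc1.mul_right hc2
  have hy2 : X (P 2) (bar (P 2)) 1 ^ 2 = 1 := by
    rw [X_pow hX hγ, Nat.cast_ofNat, h2K, zero_mul, X_zero hX hγ]
  have hc3 := cube_eq_one hK hM h01 (X := X)
  have hyG : X (P 2) (bar (P 2)) 1 ∈ G1 := by
    have h1 : (X (P 2) (bar (P 2)) 1 * (X (P 0) (P 1) 1 * X (P 1) (P 0) 1)) ^ 3 =
        X (P 2) (bar (P 2)) 1 := by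
      rw [hc.mul_pow, hc3, mul_one, pow_succ, hy2, one_mul]
    rw [← h1]
    exact pow_mem hbG 3
  have hcG : X (P 0) (P 1) 1 * X (P 1) (P 0) 1 ∈ G1 := by
    have e : X (P 0) (P 1) 1 * X (P 1) (P 0) 1 = (X (P 2) (bar (P 2)) 1)⁻¹ *
        (X (P 2) (bar (P 2)) 1 * (X (P 0) (P 1) 1 * X (P 1) (P 0) 1)) := by group
    rw [e]
    exact mul_mem (inv_mem hyG) hbG
  -- all long root subgroups
  have hlong := long_of_one hP hn hnG (r := 2) (rootIn_of_one hγ hyG)
  -- a short root element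
  have h1m : P 1 ≠ bar (P 0) := by
    rw [hbar]; exact hne (by omega) (by omega) (by omega)
  obtain ⟨t1, t2, t3, ht1, hconj⟩ := conj_long_char_two hK hX hM h01 h1m
  have h0b1 : P 0 ≠ bar (P 1) := by
    rw [hbar]; exact hne (by omega) (by omega) (by omega)
  have hs1 : RootIn X G1 (P 0) (bar (P 1)) := by
    apply rootIn_of_one h0b1
    have h1 : X (P 0) (bar (P 1)) t1 ∈ G1 := by
      have e : X (P 0) (bar (P 1)) t1 = (X (P 0) (P 1) 1 * X (P 1) (P 0) 1) *
          X (P 1) (bar (P 1)) 1 * (X (P 0) (P 1) 1 * X (P 1) (P 0) 1)⁻¹ *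
          (X (P 0) (bar (P 0)) t3)⁻¹ * (X (P 1) (bar (P 1)) t2)⁻¹ := by
        rw [hconj]; group
      rw [e]
      exact mul_mem (mul_mem (mul_mem (mul_mem hcG (hlong _ _)) (inv_mem hcG))
        (inv_mem (hlong _ _))) (inv_mem (hlong _ _))
    rcases h01K t1 with h | h
    · exact absurd h ht1
    · rwa [h] at h1
  -- its orbit
  have horb : ∀ k, RootIn X G1 (P k) (P (k + 1 + m)) := by
    intro k
    induction k with
    | zero =>
      have := hs1
      rw [hbar] at this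
      simpa using this
    | succ k ih =>
      have hkne : P k ≠ P (k + 1 + m) := by
        intro h
        have h1 := (hP.eq_iff _ _).mp h
        have h2 : k + 1 + m = k + (m + 1) := by ring
        rw [h2, Nat.add_mod k (m + 1), Nat.mod_eq_of_lt (show m + 1 < 2 * m by omega)] at h1
        have h5 := Nat.mod_lt k (show 0 < 2 * m by omega)
        by_cases h6 : k % (2 * m) + (m + 1) < 2 * m
        · rw [Nat.mod_eq_of_lt h6] at h1
          omega
        · have h7 : (k % (2 * m) + (m + 1)) % (2 * m) = k % (2 * m) + (m + 1) - 2 * m := by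
            rw [Nat.mod_eq_sub_mod (by omega), Nat.mod_eq_of_lt (by omega)]
          rw [h7] at h1
          omega
      have h1 := RootIn.conj hn hnG hkne ih
      rw [← hP.step, ← hP.step] at h1
      have e : k + 1 + m + 1 = k + 1 + 1 + m := by ring
      rw [e] at h1
      exact h1
  have hs2 : RootIn X G1 (bar (P 0)) (P 1) := by
    have h1 := horb m
    have e : m + 1 + m = 1 + 2 * m := by ring
    rw [e, hP.period] at h1
    rw [hbar, zero_add]
    exact h1
  have hshort1 : RootIn X G1 (P 0) (P 1) :=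
    RootIn.r6 hX h01 h0b1 (hlong _) hs2 (by
      have := hlong (bar (P 1))
      rwa [bar_bar] at this)
  have hshort := short_of_adjacent hX hm2 hP hn hnG hshort1
  exact eq_top_of_rootIn hcl hshort hlong

end Cfsg.Agent.Helper9.SpGen
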