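import Mathlib
import Cfsg.Agent.Helper9.SpGen.Main

/-!
# Two generators for `Sp_{2m}(K)` (S2411): the concrete assembly
-/

set_option autoImplicit false

namespace Cfsg.Agent.Helper9.SpGen

open Matrix Cfsg.Agent.Helper96.StN Cfsg.Agent.Helper96.StC Cfsg.Agent.Helper29.StCM
  Cfsg.Agent.Helper19.SpBN

universe u

variable {K : Type u} [Field K] [Fintype K]

/-- a generator of the multiplicative group, as an element of the field -/
theorem exists_field_generator (K : Type u) [Field K] [Fintype K] :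
    ∃ lam : K, lam ≠ 0 ∧ (∀ x : K, x ≠ 0 → ∃ j : ℕ, x = lam ^ j) ∧
      (4 ≤ Fintype.card K → lam ^ 2 ≠ 1) := by
  classical
  obtain ⟨g, hg⟩ := IsCyclic.exists_monoid_generator (α := Kˣ)
  refine ⟨(g : K), g.ne_zero, ?_, ?_⟩
  · intro x hx
    obtain ⟨j, hj⟩ := hg (Units.mk0 x hx)
    refine ⟨j, ?_⟩
    have := congrArg (fun u : Kˣ => (u : K)) hj
    simpa using this.symm
  · intro h4 h1
    have hg2 : g ^ 2 = 1 := by
      apply Units.ext
      simpa using h1
    have hcard : Fintype.card Kˣ = Fintype.card K - 1 := Fintype.card_units K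
    have hord : orderOf g = Fintype.card Kˣ := by
      rw [← Nat.card_eq_fintype_card]
      apply orderOf_eq_card_of_forall_mem_zpowers
      intro x
      obtain ⟨j, hj⟩ := hg x
      exact ⟨j, by simpa using hj⟩
    have hle : orderOf g ≤ 2 := Nat.le_of_dvd (by norm_num) (orderOf_dvd_of_pow_eq_one hg2)
    omega

theorem two_ne_zero_of_card_three (h3 : Fintype.card K = 3) : (2 : K) ≠ 0 := by
  intro h2
  have hsurj := exists_natCast_of_card_prime Nat.prime_three h3 (K := K)
  have h01 : ∀ t : K, t = 0 ∨ t = 1 := by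
    intro t
    obtain ⟨j, rfl⟩ := hsurj t
    rcases Nat.even_or_odd' j with ⟨k, rfl | rfl⟩
    · left
      push_cast
      rw [h2, zero_mul]
    · right
      push_cast
      rw [h2, zero_mul, zero_add]
  have hle : Fintype.card K ≤ 2 := by
    classical
    have : (Finset.univ : Finset K) ⊆ {0, 1} := by
      intro t _
      rcases h01 t with h | h <;> simp [h]
    calc Fintype.card K = (Finset.univ : Finset K).card := rfl
      _ ≤ ({0, 1} : Finset K).card := Finset.card_le_card this
      _ ≤ 2 := Finset.card_le_two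
  omega

theorem sp_two_generated (m : ℕ) (hm : 2 ≤ m) (hK : m = 2 → 2 < Fintype.card K) :
    ∃ a b : SpG K m, Subgroup.closure ({a, b} : Set (SpG K m)) = ⊤ := by
  have hm0 : 0 < m := by omega
  have hπ := rot_bar m hm0
  have hP := isCyc_rot m hm0
  have hcn : ∀ k, cn K m k * cn K m (bar k) * sgn K k = sgn K (rot m hm0 k) :=
    cn_cond hm0 (pos_rot m hm0)
  let n : SpG K m := ⟨monoM (rot m hm0) (cn K m), monoM_mem hπ hcn⟩
  have hn : IsMono (XS K m) n (rot m hm0) (cn K m) := isMono_of_coe hπ hcn rfl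
  have hcard1 : 1 < Fintype.card K := Fintype.one_lt_card
  rcases Nat.lt_or_ge (Fintype.card K) 4 with hlt | h4
  · rcases (show Fintype.card K = 2 ∨ Fintype.card K = 3 by omega) with h2 | h3
    · -- `q = 2`
      have hm3 : 3 ≤ m := by
        rcases Nat.lt_or_ge m 3 with h | h
        · have := hK (by omega)
          omega
        · exact h
      exact ⟨_, _, gen_two h2 XS_spRel (XS_monoData hm) XS_closure hm3 hP hn⟩
    · -- `q = 3`
      exact ⟨_, _, gen_prime XS_spRel XS_closure hm hP hn (two_ne_zero_of_card_three h3)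
        (exists_natCast_of_card_prime Nat.prime_three h3)⟩
  · -- `q ≥ 4`
    obtain ⟨lam, hl0, hlam, hlam2⟩ := exists_field_generator K
    have hdc : ∀ k, dT lam k * dT lam (bar k) * sgn K k =
        sgn K ((1 : Equiv.Perm (Fin m ⊕ Fin m)) k) := dT_cond hm hl0
    have hπ1 : ∀ k, (1 : Equiv.Perm (Fin m ⊕ Fin m)) (bar k) =
        bar ((1 : Equiv.Perm (Fin m ⊕ Fin m)) k) := fun _ => rfl
    let h : SpG K m := ⟨monoM 1 (dT lam), monoM_mem hπ1 hdc⟩
    have hh : IsMono (XS K m) h 1 (dT lam) := isMono_of_coe hπ1 hdc rfl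
    have hcomm : Commute h (n * h * n⁻¹) := commute_of_isMono_one hh (isMono_conj hn hh)
    have hq : h ^ Fintype.card K = h := pow_card_of_diag (d := dT lam) rfl
    obtain ⟨d0, d1, dm, dm1, dl⟩ := dT_values hm lam
    exact ⟨_, _, gen_trick XS_spRel XS_closure hm hP hn hh hcomm hq hlam (hlam2 h4)
      d0 d1 dm dm1 dl⟩

end Cfsg.Agent.Helper9.SpGen
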